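import Groth.Agent.Lib.FlatBC.TrivialDesc
import Groth.Agent.Lib.AmpSpread10.SemiLocal
import Groth.Agent.Lib.ParaPair.Descent
import Groth.Agent.Lib.Stein.General

/-! # Invertible modules over semilocal rings are trivial; the map to the spectrum of global functions -/

set_option autoImplicit false
set_option linter.all false
set_option backward.isDefEq.respectTransparency false
set_option maxHeartbeats 1000000

universe u

open CategoryTheory CategoryTheory.Limits AlgebraicGeometry TopologicalSpace Opposite
open GrothLib.InvExt (mres IsGen)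

noncomputable section

namespace GrothLib.SemiTriv10

variable {Y : Scheme.{u}}

theorem nonempty_iso_of_isGen_top {L : Y.Modules} (s : Γ(L, ⊤)) (hgen : IsGen L ⊤ s) :
    Nonempty (L ≅ Coh.structureModule Y) := by
  obtain ⟨φ, hφ⟩ := (ParaPair.eval_top_bijective L).2 s
  haveI : IsIso φ := by
    rw [Scheme.Modules.Hom.isIso_iff_isIso_app]
    intro W
    rw [ConcreteCategory.isIso_iff_bijective]
    have h1 : ∀ k : Γ(Y, W), φ.app W (show Γ(Coh.structureModule Y, W) from k) = k • mres L le_top s := by
      intro k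
      have h2 : φ.app W (1 : Γ(Y, W)) = mres L le_top s := by
        rw [← show φ.app ⊤ (1 : Γ(Y, ⊤)) = s from hφ]
        refine Eq.trans ?_ (congr($(φ.mapPresheaf.naturality (homOfLE (le_top : W ≤ ⊤)).op) (1 : Γ(Y, ⊤))))
        exact congrArg (φ.app W) (map_one (Y.presheaf.map (homOfLE (le_top : W ≤ ⊤)).op).hom).symm
      have h3 := Scheme.Modules.Hom.app_smul φ (U := W) k (show Γ(Coh.structureModule Y, W) from (1 : Γ(Y, W)))
      refine Eq.trans (congrArg (φ.app W) (mul_one k).symm) (h3.trans ?_)
      exact congrArg (k • ·) h2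
    have h4 := hgen W le_top
    rw [← funext h1] at h4
    exact h4
  exact ⟨(asIso φ).symm⟩

/-- An invertible module over a semilocal ring is trivial. -/
theorem trivial_of_semilocal {R : CommRingCat.{u}} (hsl : Finite (MaximalSpectrum R))
    {L : (Spec R).Modules} (hL : PicF.IsInvertible L) : Nonempty (L ≅ Coh.structureModule (Spec R)) := by
  let Z : Set (Spec R) := Set.range fun m : MaximalSpectrum R => (⟨m.asIdeal, m.isMaximal.isPrime⟩ : PrimeSpectrum R)
  obtain ⟨t, ht⟩ := AmpSpread10.exists_section_genAt_finite hL (isAffineOpen_top (Spec R))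
    (Set.finite_range _) (Set.subset_univ Z)
  have hall : VA.genOpen L t = ⊤ := by
    refine eq_top_iff.2 fun z _ => ?_
    obtain ⟨m, hm, hzm⟩ := (z : PrimeSpectrum R).asIdeal.exists_le_maximal (z : PrimeSpectrum R).isPrime.ne_top
    let m' : PrimeSpectrum R := ⟨m, hm.isPrime⟩
    have hsp : (z : PrimeSpectrum R) ⤳ m' := (PrimeSpectrum.le_iff_specializes _ _).1 hzm
    exact hsp.mem_open (VA.genOpen L t).2 (VA.mem_genOpen.2 (ht m' ⟨⟨m, hm⟩, rfl⟩))
  have hgen : IsGen L ⊤ t := by
    have := VA.isGen_of_le_genOpen (t := t) (W := ⊤) hall.ge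
    rwa [InvExt.mres_self] at this
  exact nonempty_iso_of_isGen_top t hgen

theorem flat_specMap (A B : Type u) [CommRing A] [CommRing B] [Algebra A B] [Module.Flat A B] :
    Flat (Spec.map (CommRingCat.ofHom (algebraMap A B))) :=
  Flat.SpecMap_iff.2 (RingHom.flat_algebraMap_iff.2 inferInstance)

theorem surjective_specMap (A B : Type u) [CommRing A] [CommRing B] [Algebra A B] [Module.FaithfullyFlat A B] :
    Surjective (Spec.map (CommRingCat.ofHom (algebraMap A B))) :=
  ⟨PrimeSpectrum.comap_surjective_of_faithfullyFlat⟩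

theorem bijective_toSpecΓ_app (X : Scheme.{u}) [CompactSpace X] [QuasiSeparatedSpace X] (V : (Spec Γ(X, ⊤)).Opens) :
    Function.Bijective (X.toSpecΓ.app V) :=
  Stein.bijective_app_of_basicOpen X.toSpecΓ (fun _ =>
    ⟨⊤, isAffineOpen_top _, trivial, by
      haveI : IsIso (X.toSpecΓ.app ⊤) := by
        show IsIso X.toSpecΓ.appTop
        rw [Scheme.toSpecΓ_appTop]
        infer_instance
      exact ConcreteCategory.bijective_of_isIso _⟩) V

end GrothLib.SemiTriv10
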