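import Groth.Prelude.Def_Lef
import Groth.Agent.Lib.GlobalConst.Scheme

/-! # Limits of connected finite algebras over an algebraically closed field are local -/

set_option autoImplicit false
set_option linter.all false
set_option backward.isDefEq.respectTransparency false

universe u

open CategoryTheory CategoryTheory.Limits AlgebraicGeometry Opposite

noncomputable section

namespace GrothLib.SemiTriv10

theorem exists_sub_isNilpotent {k B : Type u} [Field k] [IsAlgClosed k] [CommRing B] [Nontrivial B]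
    [Algebra k B] [Module.Finite k B] (hid : ∀ e : B, IsIdempotentElem e → e = 0 ∨ e = 1) (a : B) :
    ∃ c : k, IsNilpotent (a - algebraMap k B c) := by
  have hun : ∀ x : B, IsUnit x ∨ IsNilpotent x := by
    intro x
    haveI : IsArtinianRing B := IsArtinianRing.of_finite k B
    obtain ⟨n, y, hy⟩ := IsArtinian.exists_pow_succ_smul_dvd x (1 : B)
    simp only [smul_eq_mul, mul_one] at hy
    have h2 : ∀ j : ℕ, x ^ (n + j) * y ^ j = x ^ n := by
      intro j
      induction j with
      | zero => simp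
      | succ j ih =>
        calc x ^ (n + (j + 1)) * y ^ (j + 1) = x ^ j * (x ^ (n + 1) * y) * y ^ j := by ring
          _ = x ^ (n + j) * y ^ j := by rw [hy]; ring
          _ = x ^ n := ih
    have he : IsIdempotentElem (x ^ n * y ^ n) := by
      show _ * _ = _
      calc x ^ n * y ^ n * (x ^ n * y ^ n) = (x ^ (n + n) * y ^ n) * y ^ n := by ring
        _ = x ^ n * y ^ n := by rw [h2 n]
    rcases hid _ he with h | h
    · refine Or.inr ⟨n, ?_⟩
      calc x ^ n = x ^ n * (x ^ n * y ^ n) := by rw [← mul_assoc, ← pow_add, h2 n]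
        _ = 0 := by rw [h, mul_zero]
    · rcases n with _ | m
      · refine Or.inl (IsUnit.of_mul_eq_one y ?_)
        simpa using hy
      · exact Or.inl (IsUnit.of_mul_eq_one (x ^ m * y ^ (m + 1)) (by rw [← mul_assoc, ← pow_succ']; exact h))
  haveI : IsLocalRing B := IsLocalRing.of_nonunits_add (fun a b ha hb => by
    intro hab
    have hna := (hun a).resolve_left ha
    exact hb (by
      have := hna.neg.isUnit_add_right_of_commute hab (Commute.all _ _)
      rwa [neg_add_cancel_left] at this))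
  obtain ⟨c, hc⟩ := IsAlgClosed.algebraMap_bijective_of_isIntegral (k := k) (K := IsLocalRing.ResidueField B) |>.2
    (IsLocalRing.residue B a)
  refine ⟨c, (hun _).resolve_left ?_⟩
  rw [← mem_nonunits_iff, ← IsLocalRing.mem_maximalIdeal, ← IsLocalRing.residue_eq_zero_iff, map_sub,
    ← hc, sub_eq_zero]
  rfl

variable (k : Type u) [Field k]

theorem isUnit_of_forall_isUnit {F : ℕᵒᵖ ⥤ CommRingCat.{u}} (a : ↑(limit F))
    (h : ∀ m, IsUnit ((limit.π F m).hom a)) : IsUnit a := by
  have hl := isLimitOfPreserves (forget CommRingCat.{u}) (limit.isLimit F)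
  choose u hu using h
  let sec : (F ⋙ forget CommRingCat.{u}).sections := ⟨fun m => ((u m)⁻¹ : _).1, fun {i j} f => by
    show (F.map f).hom ((u i)⁻¹).1 = ((u j)⁻¹).1
    have h1 : (F.map f).hom (u i).1 = (u j).1 := by
      rw [hu i, hu j]
      exact congr($(limit.w F f) a)
    refine (u j).isUnit.mul_left_cancel ?_
    rw [Units.mul_inv, ← h1, ← map_mul, Units.mul_inv, map_one]⟩
  let b : ↑(limit F) := (Types.isLimitEquivSections hl).symm sec
  refine IsUnit.of_mul_eq_one b ?_
  refine Concrete.limit_ext F _ _ fun m => ?_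
  show (limit.π F m).hom (a * b) = (limit.π F m).hom 1
  rw [map_mul, map_one, show (limit.π F m).hom b = ((u m)⁻¹).1 from
    Types.isLimitEquivSections_symm_apply hl sec m, ← hu m, Units.mul_inv]

theorem formal_isLocalRing [IsAlgClosed k] (X : Scheme.{u})
    [X.Over (Spec (CommRingCat.of k))] [IsProper (X ↘ (Spec (CommRingCat.of k)))]
    (𝓘 : X.IdealSheafData) (hY : _root_.IsConnected (𝓘.support : Set X)) :
    IsLocalRing ↑(limit (Functor.ofOpSequence
        (X := fun m : ℕ => Γ((𝓘 ^ (m + 1)).subscheme, ⊤))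
        (fun m : ℕ => (Scheme.IdealSheafData.inclusion (Lef.pow_succ_le 𝓘 m)).appTop))) ∧
      ∀ a : ↑(limit (Functor.ofOpSequence
        (X := fun m : ℕ => Γ((𝓘 ^ (m + 1)).subscheme, ⊤))
        (fun m : ℕ => (Scheme.IdealSheafData.inclusion (Lef.pow_succ_le 𝓘 m)).appTop))),
        ∃ c : k, ∀ m : ℕ, IsNilpotent (Sub.sub (α := ↑Γ((𝓘 ^ (m + 1)).subscheme, ⊤))
          ((limit.π (Functor.ofOpSequence
              (X := fun m : ℕ => Γ((𝓘 ^ (m + 1)).subscheme, ⊤))
              (fun m : ℕ => (Scheme.IdealSheafData.inclusion (Lef.pow_succ_le 𝓘 m)).appTop)) (Opposite.op m)).hom a)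
          (((𝓘 ^ (m + 1)).subschemeι ≫ (X ↘ Spec (CommRingCat.of k))).appTop.hom
            ((Scheme.ΓSpecIso (CommRingCat.of k)).inv.hom c))) := by
  let Y : ℕ → Scheme.{u} := fun m => (𝓘 ^ (m + 1)).subscheme
  let i : ∀ m, Y m ⟶ Y (m + 1) := fun m => Scheme.IdealSheafData.inclusion (Lef.pow_succ_le 𝓘 m)
  letI ov : ∀ m, (Y m).Over (Spec (CommRingCat.of k)) := fun m => ⟨(𝓘 ^ (m + 1)).subschemeι ≫ (X ↘ _)⟩
  haveI hp : ∀ m, IsProper (Y m ↘ Spec (CommRingCat.of k)) := fun m =>
    (inferInstance : IsProper ((𝓘 ^ (m + 1)).subschemeι ≫ (X ↘ Spec (CommRingCat.of k))))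
  haveI hc : ∀ m, ConnectedSpace (Y m) := fun m => by
    have h1 : _root_.IsConnected (Set.range (𝓘 ^ (m + 1)).subschemeι) := by
      rw [(𝓘 ^ (m + 1)).range_subschemeι, Scheme.IdealSheafData.support_pow_succ]
      exact hY
    haveI := isConnected_iff_connectedSpace.1 h1
    exact (((𝓘 ^ (m + 1)).subschemeι.isClosedEmbedding.isEmbedding.toHomeomorph).symm.surjective).connectedSpace
      (Homeomorph.continuous _)
  letI al : ∀ m, Algebra k Γ(Y m, ⊤) := fun m => GlobalConst.algΓ k
  haveI hnt : ∀ m, Nontrivial Γ(Y m, ⊤) := fun m => by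
    obtain ⟨y⟩ := (hc m).toNonempty
    exact ((Y m).presheaf.germ ⊤ y trivial).hom.domain_nontrivial
  have hconst : ∀ m (c : k), algebraMap k Γ(Y m, ⊤) c =
      ((𝓘 ^ (m + 1)).subschemeι ≫ (X ↘ Spec (CommRingCat.of k))).appTop.hom
        ((Scheme.ΓSpecIso (CommRingCat.of k)).inv.hom c) := fun m c => rfl
  set F := Functor.ofOpSequence (X := fun m : ℕ => Γ((𝓘 ^ (m + 1)).subscheme, ⊤))
    (fun m : ℕ => (Scheme.IdealSheafData.inclusion (Lef.pow_succ_le 𝓘 m)).appTop)
  let π' : ∀ m, ↑(limit F) →+* Γ(Y m, ⊤) := fun m => (limit.π F (op m)).hom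
  have huniq : ∀ m (b : Γ(Y m, ⊤)) (c c' : k), IsNilpotent (b - algebraMap k _ c) →
      IsNilpotent (b - algebraMap k _ c') → c = c' := by
    intro m b c c' h h'
    by_contra hne
    have h2 := (Commute.all _ _).isNilpotent_sub h h'
    rw [sub_sub_sub_cancel_left, ← map_sub] at h2
    exact h2.not_isUnit (((isUnit_iff_ne_zero.2 (sub_ne_zero.2 (Ne.symm hne)))).map (algebraMap k Γ(Y m, ⊤)))
  have hres : ∀ a : ↑(limit F), ∃ c : k, ∀ m : ℕ, IsNilpotent
      (π' m a - algebraMap k _ c) := by
    intro a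
    have hex : ∀ m, ∃ c : k, IsNilpotent (π' m a - algebraMap k _ c) := fun m =>
      haveI := GlobalConst.finite_algΓ k (X := Y m)
      exists_sub_isNilpotent (fun e he => GlobalConst.eq_zero_or_one_of_connected e he) _
    choose c hc' using hex
    refine ⟨c 0, fun m => ?_⟩
    have hstep : ∀ n, c (n + 1) = c n := by
      intro n
      refine huniq n _ _ _ ?_ (hc' n)
      have h3 := (hc' (n + 1)).map (i n).appTop.hom
      rw [map_sub] at h3
      convert h3 using 2
      · have := congr($(limit.w F (homOfLE (Nat.le_succ n)).op) a)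
        rw [Functor.ofOpSequence_map_homOfLE_succ] at this
        exact this.symm
      · rw [hconst, hconst]
        show _ = ((((𝓘 ^ (n + 2)).subschemeι ≫ (X ↘ Spec (CommRingCat.of k))).appTop) ≫ (i n).appTop).hom _
        rw [← Scheme.Hom.comp_appTop, ← Category.assoc, Scheme.IdealSheafData.inclusion_subschemeι]
    have hcm : c m = c 0 := by
      induction m with
      | zero => rfl
      | succ n ih => rw [hstep n, ih]
    exact hcm ▸ hc' m
  refine ⟨?_, hres⟩
  haveI : Nontrivial ↑(limit F) := (limit.π F (op 0)).hom.domain_nontrivial (β := Γ(Y 0, ⊤))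
  refine IsLocalRing.of_isUnit_or_isUnit_one_sub_self fun a => ?_
  obtain ⟨c, hc'⟩ := hres a
  have key : ∀ (b : ↑(limit F)) (d : k), d ≠ 0 → (∀ m : ℕ, IsNilpotent
      (π' m b - algebraMap k _ d)) → IsUnit b := by
    intro b d hd hb
    refine isUnit_of_forall_isUnit b fun ⟨m⟩ => ?_
    have := (hb m).isUnit_add_right_of_commute ((isUnit_iff_ne_zero.2 hd).map (algebraMap k Γ(Y m, ⊤)))
      (Commute.all _ _)
    rw [sub_add_cancel] at this
    exact this
  by_cases h0 : c = 0
  · refine Or.inr (key (1 - a) 1 one_ne_zero fun m => ?_)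
    have := (hc' m).neg
    rw [h0, map_zero, sub_zero] at this
    convert this using 1
    rw [map_sub, map_one, map_one]
    exact sub_sub_cancel_left _ _
  · exact Or.inl (key a c h0 hc')

end GrothLib.SemiTriv10
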